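import Cfsg.Agent.E6Fi22.RelChecks

/-!
The vector fixed by the involutions `c, …, i` spans the module under `b, …, i`.
-/

set_option autoImplicit false
set_option maxRecDepth 10000

namespace CfsgLib.E6Fi22

/-- The fixed vector. -/
def fixV : Vec := bMat.getD 0 (0, 0)

/-- The sum of the certificate at a vector. -/
def fixSum : List (List Vec × List Vec) → Vec → Vec
  | [], _ => (0, 0)
  | p :: ps, x => forceV (app p.2 x) fun y => forceV (app p.1 (vadd y x)) fun z => vadd z (fixSum ps x)

/-- The certificate matrices with their involutions. -/
def fixPairs : List (List Vec × List Vec) := lMats.zip ((List.range 7).map fun k => nodeMats.getD (k + 2) [])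

/-- A combination of the fixed space equations gives the identity off the pivot. -/
def fixOK : Bool :=
  (List.range 78).all fun k =>
    veq (vadd (fixSum fixPairs (unit k)) (bif Nat.beq k pivot then fixV else (0, 0))) (unit k)

theorem fixOK_true : fixOK = true := by decide +kernel

theorem fixV_fixed : (List.range 7).all (fun k => veq (app (nodeMats.getD (k + 2) []) fixV) fixV) = true := by
  decide +kernel

/-- Every basis vector arises from an earlier one by one of the involutions. -/
def treeOK : Bool :=
  (List.range 77).all fun k =>
    Nat.blt (bTree.getD (k + 1) (0, 0)).2 (k + 1) && Nat.blt (bTree.getD (k + 1) (0, 0)).1 9 &&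
      Nat.blt 0 (bTree.getD (k + 1) (0, 0)).1 &&
      veq (bMat.getD (k + 1) (0, 0))
        (app (nodeMats.getD (bTree.getD (k + 1) (0, 0)).1 []) (bMat.getD (bTree.getD (k + 1) (0, 0)).2 (0, 0)))

theorem treeOK_true : treeOK = true := by decide +kernel

theorem inv_ok : sameRun [bMat, bInv] [] = true := by decide +kernel

theorem l_lengths : (fixPairs.all fun p => Nat.beq p.1.length 78 && Nat.beq p.2.length 78) = true := by
  decide +kernel

end CfsgLib.E6Fi22
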