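import Cfsg.Agent.E6Fi22.Data
import Cfsg.Agent.E6Fi22.Fast
import Cfsg.Agent.E6Fold.Triple

/-!
The generated matrices are root elements of the Chevalley group of type E6, and their products lie in the
twisted group.
-/

set_option autoImplicit false

namespace CfsgLib.E6Fi22

open Cfsg.Lie CfsgLib.Chevalley CfsgLib.E6Fold
open scoped MatrixGroups

/-- The coordinates of the adjoint module. -/
def idxEquiv : chevE6.Idx ≃ Fin 78 := finSumFinEquiv.trans (finCongr (by decide))

theorem nm_idxEquiv (a : chevE6.Idx) : nm idxEquiv a = pos a := rfl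

/-- The code of the square. -/
def sqC : ℕ → ℕ
  | 2 => 3
  | 3 => 2
  | c => c

/-- The code of the cube. -/
def cuC : ℕ → ℕ
  | 0 => 0
  | _ => 1

/-- A column of a list of entries read modulo two. -/
def entV (c : ℕ) (L : List (ℕ × ℕ × ℤ)) (j : ℕ) : Vec :=
  L.foldr (fun p acc => bif p.2.1 == j && p.2.2 % 2 != 0 then vadd (scale c (unit p.1)) acc else acc) (0, 0)

/-- A column of a root element. -/
def xCol (r c j : ℕ) : Vec :=
  vadd (unit j) (vadd (entV c (ents chevE6 r 1) j)
    (vadd (entV (sqC c) (ents chevE6 r 2) j) (entV (cuC c) (ents chevE6 r 3) j)))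

variable {K : Type*} [Field K] [CharP K 2] (w : K) (hw : w * w = w + 1)

include hw in
theorem val_entV {c : ℕ} (hc : c < 4) (j i : ℕ) : ∀ L : List (ℕ × ℕ × ℤ),
    val w (cd (entV c L j) i) = val w c *
      ((((L.filter fun p => p.1 == i && p.2.1 == j).map fun p => p.2.2).sum : ℤ) : K)
  | [] => by simp [entV, cd_zero, val]
  | p :: L => by
    have ih := val_entV hc j i L
    rw [entV] at ih
    rw [entV, List.foldr_cons, List.filter_cons]
    by_cases hj : p.2.1 = j
    · by_cases h2 : p.2.2 % 2 = 0
      · have h0 : (p.2.2 : K) = 0 := by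
          rw [CharP.intCast_eq_zero_iff K 2]; exact Int.dvd_of_emod_eq_zero h2
        simp only [hj, h2, beq_self_eq_true, bne_self_eq_false, Bool.and_false, cond_false, Bool.and_true]
        rw [ih]
        split_ifs with hi <;> simp [h0]
      · have h1 : (p.2.2 : K) = 1 := by
          have hd : ((p.2.2 - 1 : ℤ) : K) = 0 := by
            rw [CharP.intCast_eq_zero_iff K 2]; exact Int.dvd_of_emod_eq_zero (by omega)
          simpa [sub_eq_zero] using hd
        simp only [hj, beq_self_eq_true, bne_iff_ne.2 h2, Bool.and_true, cond_true]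
        rw [val_vadd, val_scale w hw hc, ih, cd_unit]
        by_cases hi : p.1 = i
        · simp [hi, h1, val, mul_add]
        · simp [hi, val]
    · simp only [beq_false_of_ne hj, Bool.false_and, cond_false, Bool.and_false]
      simpa using ih

include hw in
theorem val_sqC {c : ℕ} (hc : c < 4) : val w (sqC c) = val w c ^ 2 ∧ sqC c < 4 := by
  have e1 : w + w = 0 := CharTwo.add_self_eq_zero w
  have e0 : (1 : K) + 1 = 0 := CharTwo.add_self_eq_zero 1
  interval_cases c <;> simp [sqC, val] <;> grind

include hw in
theorem val_cuC {c : ℕ} (hc : c < 4) : val w (cuC c) = val w c ^ 3 ∧ cuC c < 4 := by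
  have e1 : w + w = 0 := CharTwo.add_self_eq_zero w
  have e0 : (1 : K) + 1 = 0 := CharTwo.add_self_eq_zero 1
  interval_cases c <;> simp [cuC, val] <;> grind

include hw in
theorem mev_eq_xR {M : List Vec} {c : ℕ} (hc : c < 4) (r : Root chevE6)
    (h : (List.range 78).all (fun j => veq (M.getD j (0, 0)) (xCol r c j)) = true) :
    mev w (nm idxEquiv) M = xR chevE6 K r (val w c) := by
  rw [← evalL_xList]
  ext a b
  have hb : pos b < 78 := nm_idxEquiv b ▸ (idxEquiv b).2
  simp only [mev, Matrix.of_apply, nm_idxEquiv]
  rw [eq_of_veq (List.all_eq_true.mp h _ (List.mem_range.2 hb)), xCol, val_vadd, val_vadd, val_vadd,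
    val_entV w hw hc, val_entV w hw (val_sqC w hw hc).2, val_entV w hw (val_cuC w hw hc).2,
    (val_sqC w hw hc).1, (val_cuC w hw hc).1, cd_unit]
  simp only [evalL, xList, dMat_one]
  simp only [Matrix.add_apply, Matrix.smul_apply, smul_eq_mul, Matrix.zero_apply,
    mul_zero, add_zero, dMat, rMat, Matrix.of_apply, eMat, SMat.den_ofEntries, Matrix.one_apply]
  by_cases hab : a = b
  · subst hab
    rw [if_pos rfl, if_pos rfl, show val w 1 = 1 from rfl]
    ring
  · rw [if_neg (fun e : pos b = pos a => hab (finSumFinEquiv.injective (Fin.ext e)).symm), if_neg hab,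
      show val w 0 = 0 from rfl]
    ring

/-- The generated root element. -/
def single (j : ℕ) : List Vec := singles.getD j []

/-- The checks for the root elements. -/
def singlesOK : Bool :=
  (List.range 20).all fun j =>
    Nat.blt (singleRT.getD j (0, 0)).1 chevE6.nroots && Nat.blt (singleRT.getD j (0, 0)).2 4 &&
    (List.range 78).all fun c =>
      veq ((single j).getD c (0, 0)) (xCol (singleRT.getD j (0, 0)).1 (singleRT.getD j (0, 0)).2 c)

theorem singlesOK_true : singlesOK = true := by decide +kernel

theorem single_facts {j : ℕ} (hj : j < 20) : (singleRT.getD j (0, 0)).1 < chevE6.nroots ∧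
    (singleRT.getD j (0, 0)).2 < 4 ∧ (List.range 78).all (fun c =>
      veq ((single j).getD c (0, 0)) (xCol (singleRT.getD j (0, 0)).1 (singleRT.getD j (0, 0)).2 c)) = true := by
  have := List.all_eq_true.mp singlesOK_true j (List.mem_range.2 hj)
  simpa only [Bool.and_eq_true, Nat.blt_eq, and_assoc] using this

/-- The root elements in the group. -/
noncomputable def sU (hW : GoodWeyl chevE6) (j : ℕ) : GL chevE6.Idx K :=
  if h : (singleRT.getD j (0, 0)).1 < chevE6.nroots then
    X hW.good ⟨_, h⟩ (val w (singleRT.getD j (0, 0)).2) else 1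

variable (hW : GoodWeyl chevE6)

include hw in
theorem coe_sU {j : ℕ} (hj : j < 20) :
    (sU w hW j : Matrix chevE6.Idx chevE6.Idx K) = mev w (nm idxEquiv) (single j) := by
  obtain ⟨h1, h2, h3⟩ := single_facts hj
  rw [sU, dif_pos h1, coe_X]
  exact (mev_eq_xR w hw h2 ⟨_, h1⟩ h3).symm

/-- The factors of a word in the twisted root elements. -/
def flat (l : List ℕ) : List ℕ := l.flatMap fun g => genSingles.getD g []

/-- A product of twisted root elements. -/
noncomputable def gProd (l : List ℕ) : GL chevE6.Idx K := ((flat l).map (sU w hW)).prod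

theorem gens_shape : (List.range 12).all (fun g =>
    match genSingles.getD g [] with
    | [a] => [e6p2, e6m2, e6p4, e6m4].contains (singleRT.getD a (0, 0)).1 &&
        (singleRT.getD a (0, 0)).2 == 1
    | [a, b] => [(e6p1, e6p6), (e6m1, e6m6), (e6p3, e6p5), (e6m3, e6m5)].contains
        ((singleRT.getD a (0, 0)).1, (singleRT.getD b (0, 0)).1) &&
        sqC (singleRT.getD a (0, 0)).2 == (singleRT.getD b (0, 0)).2 &&
        decide ((singleRT.getD a (0, 0)).2 < 4) &&
        decide ((singleRT.getD a (0, 0)).1 < chevE6.nroots) &&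
        decide ((singleRT.getD b (0, 0)).1 < chevE6.nroots)
    | _ => false) = true := by decide +kernel

include hw in
theorem gen_mem_twisted {g : ℕ} (hg : g < 12) : gProd w hW [g] ∈ twistedE6 K 2 := by
  have h := List.all_eq_true.mp gens_shape g (List.mem_range.2 hg)
  rw [gProd, show flat [g] = genSingles.getD g [] by simp [flat]]
  match hs : genSingles.getD g [] with
  | [] => rw [hs] at h; simp at h
  | [a] =>
    rw [hs] at h
    simp only [Bool.and_eq_true, List.contains_iff_mem, beq_iff_eq] at h
    rw [List.map_singleton, List.prod_singleton]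
    by_cases hr : (singleRT.getD a (0, 0)).1 < chevE6.nroots
    · rw [sU, dif_pos hr, h.2]
      exact single_mem_twisted hW h.1 (by simp [val])
    · rw [sU, dif_neg hr]; exact one_mem _
  | [a, b] =>
    rw [hs] at h
    simp only [Bool.and_eq_true, List.contains_iff_mem, beq_iff_eq, decide_eq_true_eq] at h
    obtain ⟨⟨⟨⟨hm, hsq⟩, hc⟩, ha⟩, hb⟩ := h
    rw [List.map_cons, List.map_singleton, List.prod_cons, List.prod_singleton, sU, sU, dif_pos ha, dif_pos hb,
      ← hsq, (val_sqC w hw hc).1]
    exact pair_mem_twisted hW _ hm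
  | _ :: _ :: _ :: _ => rw [hs] at h; simp at h

include hw in
theorem gProd_mem_twisted : ∀ {l : List ℕ}, (∀ g ∈ l, g < 12) → gProd w hW l ∈ twistedE6 K 2
  | [], _ => by simp [gProd, flat]
  | g :: l, h => by
    have e : gProd w hW (g :: l) = gProd w hW [g] * gProd w hW l := by
      simp [gProd, flat, List.prod_append]
    rw [e]
    exact mul_mem (gen_mem_twisted w hw hW (h g List.mem_cons_self))
      (gProd_mem_twisted fun x hx => h x (List.mem_cons_of_mem g hx))

include hw in
theorem coe_prod_sU {l : List ℕ} (hl : ∀ j ∈ l, j < 20) :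
    (((l.map (sU w hW)).prod : GL chevE6.Idx K) : Matrix chevE6.Idx chevE6.Idx K) =
      ((l.map single).map (mev w (nm idxEquiv))).prod := by
  rw [← Units.coeHom_apply, map_list_prod, List.map_map, List.map_map]
  exact congrArg List.prod (List.map_congr_left fun j hj => coe_sU w hw hW (hl j hj))

end CfsgLib.E6Fi22
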