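import Cfsg.Agent.E6Fi22.Data
import Cfsg.Agent.E6Fi22.Cert
import Cfsg.Agent.E6Fi22.Fast
import Cfsg.Agent.CosetEnum.Fi22.Setup

/-!
The relators of `Fi₂₂` on the nine packed matrices.
-/

set_option autoImplicit false
set_option maxRecDepth 10000

namespace CfsgLib.E6Fi22

open CfsgLib.CosetEnum Cfsg.Spor

/-- The factors of a word. -/
def wordMats (l : List ℕ) : List (List Vec) := l.map fun k => nodeMats.getD k []

/-- The Coxeter relators. -/
def coxW : List (List ℕ) := coxWords CosetEnum.Fi22.en 9 Fi22.edges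

theorem cox_ok : coxW.all (fun l => sameRun (wordMats l) []) = true := by decide +kernel

theorem spider_ok : (sameRun (wordMats [3, 2, 1, 3, 4, 5, 3, 7, 8]) [sp1M] && sameRun [sp1M, sp1M] [sp2M] &&
    sameRun [sp2M, sp2M] [sp4M] && sameRun [sp4M, sp4M] [sp8M] && sameRun [sp8M, sp2M] []) = true := by
  decide +kernel

theorem e7a_ok : (sameRun (wordMats [0, 1, 2, 3, 4, 5, 7]) [ea1M] && sameRun [ea1M, ea1M] [ea2M] &&
    sameRun [ea2M, ea2M] [ea4M] && sameRun [ea4M, ea4M] [ea8M] && sameRun [ea8M, ea1M] []) = true := by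
  decide +kernel

theorem e7b_ok : (sameRun (wordMats [1, 2, 3, 4, 5, 6, 7]) [eb1M] && sameRun [eb1M, eb1M] [eb2M] &&
    sameRun [eb2M, eb2M] [eb4M] && sameRun [eb4M, eb4M] [eb8M] && sameRun [eb8M, eb1M] []) = true := by
  decide +kernel

theorem cert_lengths : [sp1M, sp2M, sp4M, sp8M, ea1M, ea2M, ea4M, ea8M, eb1M, eb2M, eb4M, eb8M, bMat, bInv].all
    (fun M => Nat.beq M.length 78) = true := by decide +kernel

end CfsgLib.E6Fi22
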