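import Cfsg.Agent.E6Fi22.Words
import Cfsg.Agent.E6Fi22.RelChecks
import Cfsg.Agent.CosetEnum.Fi22Simple.Final

/-!
The embedding of `Fi₂₂` in the twisted group of type E6 over the field with four elements.
-/

set_option autoImplicit false
set_option maxRecDepth 10000

namespace CfsgLib.E6Fi22

open Cfsg.Lie Cfsg.Spor CfsgLib.Chevalley CfsgLib.CosetEnum Matrix
open scoped MatrixGroups

variable {K : Type*} [Field K] [CharP K 2] (w : K) (hw : w * w = w + 1) (hW : GoodWeyl chevE6)

/-- The images of the generators. -/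
noncomputable def genImg (a : Fi22.Gen) : GL chevE6.Idx K := nU w hW (CosetEnum.Fi22.ix a)

theorem ix_lt (a : Fi22.Gen) : CosetEnum.Fi22.ix a < 9 := by cases a <;> decide

include hw in
theorem coe_wordProd {l : List ℕ} (hl : ∀ k ∈ l, k < 9) :
    (((l.map (nU w hW)).prod : GL chevE6.Idx K) : Matrix chevE6.Idx chevE6.Idx K) =
      ((wordMats l).map (mev w (nm idxEquiv))).prod := by
  rw [← Units.coeHom_apply, map_list_prod, wordMats, List.map_map, List.map_map]
  exact congrArg List.prod (List.map_congr_left fun k hk => coe_nU w hw hW (hl k hk))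

theorem length_wordMats {l : List ℕ} (hl : ∀ k ∈ l, k < 9) : ∀ M ∈ wordMats l, M.length = 78 := by
  intro M hM
  obtain ⟨k, hk, rfl⟩ := List.mem_map.1 hM
  exact length_node (hl k hk)

include hw in
theorem wordProd_eq_one {l : List ℕ} (hl : ∀ k ∈ l, k < 9) (h : sameRun (wordMats l) [] = true) :
    (l.map (nU w hW)).prod = 1 := by
  apply Units.ext
  rw [coe_wordProd w hw hW hl, prod_eq_of_sameRun w hw idxEquiv (length_wordMats hl) (by simp) h]
  simp

include hw in
theorem pow_eq_one {l : List ℕ} (hl : ∀ k ∈ l, k < 9) {A1 A2 A4 A8 L : List Vec}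
    (hlen : ∀ M ∈ [A1, A2, A4, A8, L], M.length = 78)
    (h : (sameRun (wordMats l) [A1] && sameRun [A1, A1] [A2] && sameRun [A2, A2] [A4] && sameRun [A4, A4] [A8] &&
      sameRun [A8, L] []) = true) :
    (L = A2 → (l.map (nU w hW)).prod ^ 10 = 1) ∧ (L = A1 → (l.map (nU w hW)).prod ^ 9 = 1) := by
  simp only [Bool.and_eq_true] at h
  obtain ⟨⟨⟨⟨h1, h2⟩, h4⟩, h8⟩, hL⟩ := h
  simp only [List.forall_mem_cons] at hlen
  obtain ⟨l1, l2, l4, l8, lL, -⟩ := hlen
  have two : ∀ {A B : List Vec}, A.length = 78 → B.length = 78 → ∀ M ∈ [A, B], M.length = 78 := by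
    intro A B hA hB M hM
    simp only [List.mem_cons, List.not_mem_nil, or_false] at hM
    rcases hM with rfl | rfl <;> assumption
  have one : ∀ {A : List Vec}, A.length = 78 → ∀ M ∈ [A], M.length = 78 := fun hA M hM => by
    rw [List.mem_singleton] at hM; rwa [hM]
  have e1 := prod_eq_of_sameRun w hw idxEquiv (length_wordMats hl) (one l1) h1
  have e2 := prod_eq_of_sameRun w hw idxEquiv (two l1 l1) (one l2) h2
  have e4 := prod_eq_of_sameRun w hw idxEquiv (two l2 l2) (one l4) h4
  have e8 := prod_eq_of_sameRun w hw idxEquiv (two l4 l4) (one l8) h8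
  have eL := prod_eq_of_sameRun w hw idxEquiv (two l8 lL) (Ns := []) (by simp) hL
  simp only [List.map_cons, List.map_nil, List.prod_cons, List.prod_nil, mul_one] at e1 e2 e4 e8 eL
  refine ⟨fun e => Units.ext ?_, fun e => Units.ext ?_⟩ <;>
    rw [Units.val_pow_eq_pow_val, coe_wordProd w hw hW hl, e1, Units.val_one]
  · rw [show (10 : ℕ) = 2 * 2 * 2 + 2 from rfl, pow_add, pow_mul, pow_mul]
    simp only [pow_two, e2, e4, e8]
    rw [← e]
    exact eL
  · rw [show (9 : ℕ) = 2 * 2 * 2 + 1 from rfl, pow_add, pow_mul, pow_mul]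
    simp only [pow_two, pow_one, e2, e4, e8]
    rw [← e]
    exact eL

include hw in
theorem genImg_sq (a : Fi22.Gen) : genImg w hW a * genImg w hW a = 1 := by
  have h := List.all_eq_true.mp cox_ok [CosetEnum.Fi22.ix a, CosetEnum.Fi22.ix a]
    (mem_coxWords.mpr ⟨_, _, ix_lt a, ix_lt a, le_rfl, by
      rw [show coxLabel Fi22.edges _ _ = 1 by simp [coxLabel]]; rfl⟩)
  simpa [genImg] using wordProd_eq_one w hw hW (l := [CosetEnum.Fi22.ix a, CosetEnum.Fi22.ix a])
    (by simp [ix_lt]) h

include hw in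
theorem rels_ok : ∀ r ∈ coxRelators Fi22.edges ∪ {r | r ∈ Fi22.extra}, FreeGroup.lift (genImg w hW) r = 1 := by
  rintro r (⟨a, -, b, -, rfl⟩ | hr)
  · have hp : ∀ a b, CosetEnum.Fi22.ix a ≤ CosetEnum.Fi22.ix b →
        (genImg w hW a * genImg w hW b) ^ coxLabel Fi22.edges a b = 1 := by
      intro a b hab
      have h := List.all_eq_true.mp cox_ok _
        (mem_coxWords.mpr ⟨CosetEnum.Fi22.ix a, CosetEnum.Fi22.ix b, ix_lt a, ix_lt b, hab, rfl⟩)
      have hl : ∀ k ∈ (List.replicate (coxLabel Fi22.edges (CosetEnum.Fi22.en (CosetEnum.Fi22.ix a))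
          (CosetEnum.Fi22.en (CosetEnum.Fi22.ix b))) [CosetEnum.Fi22.ix a, CosetEnum.Fi22.ix b]).flatten,
          k < 9 := by
        intro k hk
        obtain ⟨l, hl, hkl⟩ := List.mem_flatten.1 hk
        rw [List.eq_of_mem_replicate hl] at hkl
        simp only [List.mem_cons, List.not_mem_nil, or_false] at hkl
        rcases hkl with rfl | rfl <;> exact ix_lt _
      have := wordProd_eq_one w hw hW hl h
      rw [show CosetEnum.Fi22.en (CosetEnum.Fi22.ix a) = a by cases a <;> rfl,
        show CosetEnum.Fi22.en (CosetEnum.Fi22.ix b) = b by cases b <;> rfl,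
        show ∀ m (l : List ℕ), ((List.replicate m l).flatten.map (nU w hW)).prod = (l.map (nU w hW)).prod ^ m
          from fun m l => prodw_replicate (nU w hW) l m] at this
      simpa [genImg] using this
    rw [map_pow, map_mul, FreeGroup.lift_apply_of, FreeGroup.lift_apply_of]
    rcases le_total (CosetEnum.Fi22.ix a) (CosetEnum.Fi22.ix b) with h | h
    · exact hp a b h
    · have := hp b a h
      rw [coxLabel_symm] at this
      have e : genImg w hW a * genImg w hW b = (genImg w hW b * genImg w hW a)⁻¹ := by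
        rw [_root_.mul_inv_rev, inv_eq_of_mul_eq_one_right (genImg_sq w hw hW a),
          inv_eq_of_mul_eq_one_right (genImg_sq w hw hW b)]
      rw [e, inv_pow, this, inv_one]
  · have hlen : ∀ M ∈ [sp1M, sp2M, sp4M, sp8M, ea1M, ea2M, ea4M, ea8M, eb1M, eb2M, eb4M, eb8M], M.length = 78 := by
      intro M hM
      refine Nat.eq_of_beq_eq_true (List.all_eq_true.mp cert_lengths M ?_)
      simp only [List.mem_cons, List.not_mem_nil, or_false] at hM ⊢
      tauto
    simp only [Fi22.extra, List.mem_cons, List.not_mem_nil, or_false, Set.mem_setOf_eq] at hr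
    rcases hr with rfl | rfl | rfl <;>
      simp only [map_pow, map_mul, FreeGroup.lift_apply_of]
    · have := (pow_eq_one w hw hW (l := [3, 2, 1, 3, 4, 5, 3, 7, 8]) (by decide)
        (by intro M hM; apply hlen; simp only [List.mem_cons, List.not_mem_nil, or_false] at hM ⊢; tauto)
        spider_ok).1 rfl
      simpa [genImg, CosetEnum.Fi22.ix, mul_assoc] using this
    · have := (pow_eq_one w hw hW (l := [0, 1, 2, 3, 4, 5, 7]) (by decide)
        (by intro M hM; apply hlen; simp only [List.mem_cons, List.not_mem_nil, or_false] at hM ⊢; tauto)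
        e7a_ok).2 rfl
      simpa [genImg, CosetEnum.Fi22.ix, mul_assoc] using this
    · have := (pow_eq_one w hw hW (l := [1, 2, 3, 4, 5, 6, 7]) (by decide)
        (by intro M hM; apply hlen; simp only [List.mem_cons, List.not_mem_nil, or_false] at hM ⊢; tauto)
        e7b_ok).2 rfl
      simpa [genImg, CosetEnum.Fi22.ix, mul_assoc] using this

/-- The homomorphism from `Fi₂₂`. -/
noncomputable def hom : Cfsg.Spor.Fi22 →* GL chevE6.Idx K := PresentedGroup.toGroup (rels_ok w hw hW)

theorem hom_of (a : Fi22.Gen) : hom w hw hW (PresentedGroup.of a) = genImg w hW a := PresentedGroup.toGroup.of _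

theorem hom_range_le : (hom w hw hW).range ≤ twistedE6 K 2 := by
  rw [MonoidHom.range_eq_map, ← PresentedGroup.closure_range_of, MonoidHom.map_closure, Subgroup.closure_le]
  rintro _ ⟨_, ⟨a, rfl⟩, rfl⟩
  rw [hom_of]
  exact nU_mem_twisted w hw hW (ix_lt a)

theorem node0_entry : cd ((node 0).getD 1 (0, 0)) 77 = 1 := by decide +kernel

include hw in
theorem genImg_a_ne : genImg w hW Fi22.Gen.a ≠ 1 := by
  intro h
  have h1 := congrArg (Units.val) h
  rw [genImg, coe_nU w hw hW (ix_lt _), Units.val_one] at h1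
  have h2 := congrFun (congrFun h1 (idxEquiv.symm ⟨77, by norm_num⟩)) (idxEquiv.symm ⟨1, by norm_num⟩)
  rw [mev, Matrix.of_apply, nm, nm, Equiv.apply_symm_apply, Equiv.apply_symm_apply,
    show node (CosetEnum.Fi22.ix Fi22.Gen.a) = node 0 from rfl, node0_entry, Matrix.one_apply_ne] at h2
  · exact one_ne_zero h2
  · exact fun e => absurd (congrArg Fin.val (idxEquiv.symm.injective e)) (by norm_num)

theorem hom_injective : Function.Injective (hom w hw hW) := by
  haveI := CosetEnum.Fi22.isSimpleGroup_Fi22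
  rcases (hom w hw hW).normal_ker.eq_bot_or_eq_top with h | h
  · exact (MonoidHom.ker_eq_bot_iff _).1 h
  · refine absurd ?_ (genImg_a_ne w hw hW)
    rw [← hom_of w hw hW, ← MonoidHom.mem_ker, h]
    exact Subgroup.mem_top _

end CfsgLib.E6Fi22
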