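import Cfsg.Agent.E6Fold.Eval

/-!
Vectors and matrices over a field of four elements as pairs of bit masks, and their evaluation in a field
of characteristic two with an element `w`, `w ^ 2 = w + 1`.
-/

set_option autoImplicit false

namespace CfsgLib.E6Fi22

open Matrix

/-- A vector: two bit masks. -/
abbrev Vec : Type := ℕ × ℕ

/-- The code of a coordinate. -/
def cd (v : Vec) (k : ℕ) : ℕ :=
  Nat.add (Nat.land (Nat.shiftRight v.1 k) 1) (Nat.mul 2 (Nat.land (Nat.shiftRight v.2 k) 1))

/-- Sum of vectors. -/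
def vadd (u v : Vec) : Vec := (Nat.xor u.1 v.1, Nat.xor u.2 v.2)

/-- Multiple of a vector. -/
def scale : ℕ → Vec → Vec
  | 0, _ => (0, 0)
  | 1, v => v
  | 2, v => (v.2, Nat.xor v.1 v.2)
  | _, v => (Nat.xor v.1 v.2, v.1)

/-- Evaluate both components before passing a vector on. -/
def forceV {α : Type} (v : Vec) (f : Vec → α) : α :=
  Nat.rec (Nat.rec (f (0, 0)) (fun b _ => f (0, Nat.succ b)) v.2)
    (fun a _ => Nat.rec (f (Nat.succ a, 0)) (fun b _ => f (Nat.succ a, Nat.succ b)) v.2) v.1

theorem forceV_eq {α : Type} (v : Vec) (f : Vec → α) : forceV v f = f v := by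
  obtain ⟨a, b⟩ := v
  cases a <;> cases b <;> rfl

/-- Columns applied to a vector. -/
def appL : List Vec → ℕ → Vec → Vec → Vec
  | [], _, _, acc => acc
  | c :: L, k, v, acc =>
    bif Nat.beq (cd v k) 0 then appL L (Nat.succ k) v acc
    else forceV (vadd acc (scale (cd v k) c)) fun a => appL L (Nat.succ k) v a

/-- The image of a vector under a matrix given by columns. -/
def app (M : List Vec) (v : Vec) : Vec := appL M 0 v (0, 0)

/-- The image under a product of matrices, the first being the outermost. -/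
def run : List (List Vec) → Vec → Vec
  | [], v => v
  | M :: Ms, v => forceV (run Ms v) fun u => app M u

/-- A basis vector. -/
def unit (k : ℕ) : Vec := (Nat.shiftLeft 1 k, 0)

/-- Equality of vectors. -/
def veq (u v : Vec) : Bool := Nat.beq u.1 v.1 && Nat.beq u.2 v.2

theorem eq_of_veq {u v : Vec} (h : veq u v = true) : u = v := by
  simp only [veq, Bool.and_eq_true, Nat.beq_eq] at h
  exact Prod.ext h.1 h.2

variable {K : Type*} [Field K]

/-- The element of a code. -/
def val (w : K) : ℕ → K
  | 0 => 0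
  | 1 => 1
  | 2 => w
  | _ => w + 1

theorem cd_lt (v : Vec) (k : ℕ) : cd v k < 4 := by
  have h1 : (v.1 >>> k) &&& 1 ≤ 1 := Nat.and_le_right
  have h2 : (v.2 >>> k) &&& 1 ≤ 1 := Nat.and_le_right
  show ((v.1 >>> k) &&& 1) + 2 * ((v.2 >>> k) &&& 1) < 4
  omega

theorem cd_eq (v : Vec) (k : ℕ) :
    cd v k = (v.1.testBit k).toNat + 2 * (v.2.testBit k).toNat := by
  show ((v.1 >>> k) &&& 1) + 2 * ((v.2 >>> k) &&& 1) = _
  have h : ∀ n : ℕ, (n >>> k) &&& 1 = (n.testBit k).toNat := fun n => by
    rw [Nat.and_one_is_mod, Nat.toNat_testBit, Nat.shiftRight_eq_div_pow]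
  rw [h, h]

theorem cd_zero (k : ℕ) : cd (0, 0) k = 0 := by simp [cd_eq]

theorem cd_vadd (u v : Vec) (k : ℕ) :
    cd (vadd u v) k = ((u.1.testBit k ^^ v.1.testBit k)).toNat + 2 * (u.2.testBit k ^^ v.2.testBit k).toNat := by
  rw [cd_eq]
  show ((u.1 ^^^ v.1).testBit k).toNat + 2 * ((u.2 ^^^ v.2).testBit k).toNat = _
  rw [Nat.testBit_xor, Nat.testBit_xor]

theorem cd_unit (k l : ℕ) : cd (unit k) l = if k = l then 1 else 0 := by
  rw [cd_eq]
  show ((1 <<< k).testBit l).toNat + 2 * ((0 : ℕ).testBit l).toNat = _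
  rw [Nat.one_shiftLeft, Nat.testBit_two_pow, Nat.zero_testBit]
  by_cases h : k = l <;> simp [h]

variable [CharP K 2] (w : K) (hw : w * w = w + 1)

theorem val_vadd (u v : Vec) (k : ℕ) : val w (cd (vadd u v) k) = val w (cd u k) + val w (cd v k) := by
  rw [cd_vadd, cd_eq, cd_eq]
  have e0 : (1 : K) + 1 = 0 := CharTwo.add_self_eq_zero 1
  have e1 : w + w = 0 := CharTwo.add_self_eq_zero w
  cases u.1.testBit k <;> cases v.1.testBit k <;> cases u.2.testBit k <;> cases v.2.testBit k <;>
    simp [val] <;> grind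

include hw in
theorem val_scale {c : ℕ} (hc : c < 4) (v : Vec) (k : ℕ) :
    val w (cd (scale c v) k) = val w c * val w (cd v k) := by
  have e0 : (1 : K) + 1 = 0 := CharTwo.add_self_eq_zero 1
  have e1 : w + w = 0 := CharTwo.add_self_eq_zero w
  have hx : ∀ a b : ℕ, cd (a, b) k = (a.testBit k).toNat + 2 * (b.testBit k).toNat := fun a b => cd_eq (a, b) k
  obtain ⟨a, b⟩ := v
  interval_cases c
  · simp [scale, cd_zero, val]
  · simp [scale, val]
  · show val w (cd (b, Nat.xor a b) k) = _
    rw [hx, hx, show (Nat.xor a b).testBit k = (a.testBit k ^^ b.testBit k) from Nat.testBit_xor ..]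
    cases a.testBit k <;> cases b.testBit k <;> simp [val] <;> grind
  · show val w (cd (Nat.xor a b, a) k) = _
    rw [hx, hx, show (Nat.xor a b).testBit k = (a.testBit k ^^ b.testBit k) from Nat.testBit_xor ..]
    cases a.testBit k <;> cases b.testBit k <;> simp [val] <;> grind

/-- The vector in the field. -/
def ev {ι : Type*} (e : ι → ℕ) (v : Vec) : ι → K := fun a => val w (cd v (e a))

/-- The matrix of a list of columns. -/
def mev {ι : Type*} (e : ι → ℕ) (M : List Vec) : Matrix ι ι K := Matrix.of fun a b => val w (cd (M.getD (e b) (0, 0)) (e a))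

include hw in
theorem val_appL : ∀ (M : List Vec) (k : ℕ) (v acc : Vec) (a : ℕ), val w (cd (appL M k v acc) a) =
    val w (cd acc a) + ∑ j ∈ Finset.range M.length, val w (cd v (k + j)) * val w (cd (M.getD j (0, 0)) a)
  | [], k, v, acc, a => by simp [appL]
  | c :: L, k, v, acc, a => by
    rw [List.length_cons, Finset.sum_range_succ']
    simp only [List.getD_cons_succ, List.getD_cons_zero, add_zero]
    have e : ∀ j, k + (j + 1) = Nat.succ k + j := fun j => by omega
    simp only [e]
    rw [appL]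
    by_cases h0 : cd v k = 0
    · rw [show Nat.beq (cd v k) 0 = true by rw [Nat.beq_eq]; exact h0, cond_true, val_appL L, h0,
        show val w 0 = 0 from rfl, zero_mul, add_zero]
    · rw [show Nat.beq (cd v k) 0 = false by rw [← Bool.not_eq_true, Nat.beq_eq]; exact h0, cond_false,
        forceV_eq, val_appL L, val_vadd, val_scale w hw (cd_lt v k)]
      ring

variable {ι : Type*} [Fintype ι] [DecidableEq ι] (e : ι ≃ Fin 78)

/-- The coordinate number. -/
abbrev nm (a : ι) : ℕ := (e a : ℕ)

include hw in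
theorem ev_app {M : List Vec} (hM : M.length = 78) (v : Vec) :
    ev w (nm e) (app M v) = (mev w (nm e) M) *ᵥ (ev w (nm e) v) := by
  funext a
  show val w (cd (appL M 0 v (0, 0)) (nm e a)) = _
  rw [val_appL w hw, cd_zero, hM, show val w 0 = 0 from rfl, zero_add, ← Fin.sum_univ_eq_sum_range
    (fun j => val w (cd v (0 + j)) * val w (cd (M.getD j (0, 0)) (nm e a))) 78, ← Equiv.sum_comp e]
  exact Finset.sum_congr rfl fun b _ => by
    rw [zero_add, mul_comm]; rfl

theorem ev_unit (b : ι) : ev w (nm e) (unit (nm e b)) = Pi.single b 1 := by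
  funext a
  show val w (cd (unit (nm e b)) (nm e a)) = _
  rw [cd_unit]
  by_cases h : a = b
  · subst h; rw [if_pos rfl, Pi.single_eq_same]; rfl
  · rw [if_neg fun h0 => h (e.injective (Fin.ext h0)).symm, Pi.single_eq_of_ne h]; rfl

include hw in
theorem ev_run : ∀ {Ms : List (List Vec)}, (∀ M ∈ Ms, M.length = 78) → ∀ v : Vec,
    ev w (nm e) (run Ms v) = (Ms.map (mev w (nm e))).prod *ᵥ ev w (nm e) v
  | [], _, v => by rw [List.map_nil, List.prod_nil, Matrix.one_mulVec]; rfl
  | M :: Ms, h, v => by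
    rw [run, forceV_eq, ev_app w hw e (h M List.mem_cons_self),
      ev_run (fun N hN => h N (List.mem_cons_of_mem M hN)) v, List.map_cons, List.prod_cons, Matrix.mulVec_mulVec]

end CfsgLib.E6Fi22
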