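import Cfsg.Agent.E6Fi22.Words
import Cfsg.Agent.E6Fi22.CentChecks

/-!
Only scalars commute with the involutions `b, …, i`.
-/

set_option autoImplicit false
set_option maxRecDepth 10000

namespace CfsgLib.E6Fi22

open Cfsg.Lie CfsgLib.Chevalley Matrix
open scoped MatrixGroups

variable {K : Type*} [Field K] [CharP K 2] (w : K) (hw : w * w = w + 1)

theorem ev_vadd (u v : Vec) :
    ev w (nm idxEquiv) (vadd u v) = ev w (nm idxEquiv) u + ev w (nm idxEquiv) v :=
  funext fun _ => val_vadd w u v _

theorem ev_zero : ev w (nm idxEquiv) ((0, 0) : Vec) = 0 := funext fun a => by simp [ev, cd_zero, val]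

include hw in
theorem ev_fixSum : ∀ {ps : List (List Vec × List Vec)}, (∀ p ∈ ps, p.1.length = 78 ∧ p.2.length = 78) →
    ∀ u : Vec, ev w (nm idxEquiv) (fixSum ps u) =
      (ps.map fun p => mev w (nm idxEquiv) p.1 * (mev w (nm idxEquiv) p.2 + 1)).sum *ᵥ ev w (nm idxEquiv) u
  | [], _, u => by rw [fixSum, ev_zero, List.map_nil, List.sum_nil, Matrix.zero_mulVec]
  | p :: ps, h, u => by
    obtain ⟨h1, h2⟩ := h p List.mem_cons_self
    rw [fixSum, forceV_eq, forceV_eq, ev_vadd w, ev_app w hw idxEquiv h1, ev_vadd w,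
      ev_app w hw idxEquiv h2, ev_fixSum fun q hq => h q (List.mem_cons_of_mem p hq)]
    rw [List.map_cons, List.sum_cons, Matrix.add_mulVec (_ * _), ← Matrix.mulVec_mulVec, Matrix.add_mulVec,
      Matrix.one_mulVec]

/-- The index of the pivot. -/
def pivI : chevE6.Idx := idxEquiv.symm ⟨pivot, by decide⟩

theorem nm_pivI : nm idxEquiv pivI = pivot := by
  show ((idxEquiv (idxEquiv.symm _) : Fin 78) : ℕ) = _
  rw [Equiv.apply_symm_apply]

include hw in
theorem eq_smul_fixV (x : chevE6.Idx → K)
    (hx : ∀ k, 2 ≤ k → k < 9 → mev w (nm idxEquiv) (node k) *ᵥ x = x) :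
    x = x pivI • ev w (nm idxEquiv) fixV := by
  have hlen : ∀ p ∈ fixPairs, p.1.length = 78 ∧ p.2.length = 78 := fun p hp => by
    have := List.all_eq_true.mp l_lengths p hp
    simpa only [Bool.and_eq_true, Nat.beq_eq] using this
  set A := (fixPairs.map fun p => mev w (nm idxEquiv) p.1 * (mev w (nm idxEquiv) p.2 + 1)).sum with hA
  have hone : A + vecMulVec (ev w (nm idxEquiv) fixV) (Pi.single pivI 1) = 1 := by
    refine Matrix.ext_of_mulVec_single fun b => ?_
    have h := eq_of_veq (List.all_eq_true.mp fixOK_true _ (List.mem_range.2 (idxEquiv b).2))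
    have h' := congrArg (ev w (nm idxEquiv)) h
    rw [ev_vadd w, ev_fixSum w hw hlen, ev_unit w idxEquiv] at h'
    rw [Matrix.add_mulVec, Matrix.one_mulVec]
    refine Eq.trans ?_ h'
    congr 1
    rw [Matrix.vecMulVec_mulVec, op_smul_eq_smul]
    by_cases hb : b = pivI
    · subst hb
      rw [show Nat.beq (nm idxEquiv pivI) pivot = true by rw [Nat.beq_eq, nm_pivI], cond_true]
      simp
    · rw [show Nat.beq (nm idxEquiv b) pivot = false by
        rw [← Bool.not_eq_true, Nat.beq_eq, ← nm_pivI]
        exact fun e => hb (idxEquiv.injective (Fin.ext e)), cond_false, ev_zero]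
      simp [dotProduct, Pi.single_apply, Ne.symm hb, hb]
  have hA0 : A *ᵥ x = 0 := by
    have : ∀ ps : List (List Vec × List Vec), (∀ p ∈ ps, p ∈ fixPairs) →
        (ps.map fun p => mev w (nm idxEquiv) p.1 * (mev w (nm idxEquiv) p.2 + 1)).sum *ᵥ x = 0 := by
      intro ps
      induction ps with
      | nil => intro _; simp
      | cons p ps ih =>
        intro hp
        rw [List.map_cons, List.sum_cons, Matrix.add_mulVec, ih fun q hq => hp q (List.mem_cons_of_mem p hq),
          add_zero, ← Matrix.mulVec_mulVec, Matrix.add_mulVec, Matrix.one_mulVec]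
        obtain ⟨k, hk, hk'⟩ := List.mem_map.1 (List.of_mem_zip (a := p.1) (b := p.2) (hp p List.mem_cons_self)).2
        rw [← hk']
        rw [show nodeMats.getD (k + 2) [] = node (k + 2) from rfl,
          hx _ (by omega) (by have := List.mem_range.1 hk; omega)]
        rw [show x + x = 0 from funext fun a => CharTwo.add_self_eq_zero (x a), Matrix.mulVec_zero]
    exact this _ fun p hp => hp
  conv_lhs => rw [← Matrix.one_mulVec x, ← hone, Matrix.add_mulVec, hA0, zero_add, Matrix.vecMulVec_mulVec,
    op_smul_eq_smul, single_one_dotProduct]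

include hw in
theorem scalar_of_commute (Z : Matrix chevE6.Idx chevE6.Idx K)
    (hZ : ∀ k, 1 ≤ k → k < 9 → Commute Z (mev w (nm idxEquiv) (node k))) : ∃ c : K, Z = c • 1 := by
  set v := ev w (nm idxEquiv) fixV with hv
  set c := (Z *ᵥ v) pivI
  have hMv : ∀ k, 2 ≤ k → k < 9 → mev w (nm idxEquiv) (node k) *ᵥ v = v := by
    intro k h2 h9
    have h := List.all_eq_true.mp fixV_fixed (k - 2) (List.mem_range.2 (by omega))
    rw [show k - 2 + 2 = k by omega] at h
    rw [hv, ← ev_app w hw idxEquiv (length_node h9)]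
    exact congrArg _ (eq_of_veq h)
  have h0 : Z *ᵥ v = c • v := eq_smul_fixV w hw _ fun k h2 h9 => by
    rw [Matrix.mulVec_mulVec, ← (hZ k (by omega) h9).eq, ← Matrix.mulVec_mulVec, hMv k h2 h9]
  have hb : ∀ k, k < 78 → Z *ᵥ ev w (nm idxEquiv) (bMat.getD k (0, 0)) =
      c • ev w (nm idxEquiv) (bMat.getD k (0, 0)) := by
    intro k
    induction k using Nat.strong_induction_on with
    | _ k ih =>
      intro hk
      cases k with
      | zero => exact h0
      | succ k =>
        have h := List.all_eq_true.mp treeOK_true k (List.mem_range.2 (by omega))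
        simp only [Bool.and_eq_true, Nat.blt_eq] at h
        obtain ⟨⟨⟨hpar, hg⟩, hg0⟩, he⟩ := h
        rw [eq_of_veq he, ev_app w hw idxEquiv (M := nodeMats.getD _ []) (length_node hg), Matrix.mulVec_mulVec,
          show nodeMats.getD (bTree.getD (k + 1) (0, 0)).1 [] = node (bTree.getD (k + 1) (0, 0)).1 from rfl,
          (hZ _ hg0 hg).eq, ← Matrix.mulVec_mulVec, ih _ hpar (by omega), Matrix.mulVec_smul]
  refine ⟨c, ?_⟩
  have hlB : ∀ M ∈ [bMat, bInv], M.length = 78 := by
    intro M hM
    refine Nat.eq_of_beq_eq_true (List.all_eq_true.mp cert_lengths M ?_)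
    simp only [List.mem_cons, List.not_mem_nil, or_false] at hM ⊢
    tauto
  have hinv := prod_eq_of_sameRun w hw idxEquiv hlB (Ns := []) (by simp) inv_ok
  simp only [List.map_cons, List.map_nil, List.prod_cons, List.prod_nil, mul_one] at hinv
  have hZB : Z * mev w (nm idxEquiv) bMat = c • mev w (nm idxEquiv) bMat := by
    ext a b
    exact congrFun (hb (nm idxEquiv b) (idxEquiv b).2) a
  calc Z = Z * (mev w (nm idxEquiv) bMat * mev w (nm idxEquiv) bInv) := by rw [hinv, mul_one]
    _ = c • 1 := by rw [← Matrix.mul_assoc, hZB, Matrix.smul_mul, hinv]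

end CfsgLib.E6Fi22
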