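import Cfsg.Agent.E6Fi22.Hom
import Cfsg.Agent.E6Fi22.Scalar
import Cfsg.Prelude.Def_KGroupFacts

/-!
A subgroup of the twisted group of type E6 over four elements with scalar centraliser and an outer automorphism
group of exponent at most two has three non-conjugate twists under the diagonal automorphism of order three.
-/

set_option autoImplicit false

namespace CfsgLib.E6Fi22

open Cfsg.Lie CfsgLib CfsgLib.Chevalley CfsgLib.E6Fold
open scoped MatrixGroups

variable {K : Type*} [Field K]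

theorem twisted_le_group (hW : GoodWeyl chevE6) : twistedE6 K 2 ≤ chevE6.group K := by
  refine (Subgroup.closure_le _).2 ?_
  rintro z ⟨l, hl, hz⟩
  have : ∀ l : List (ℕ × K), ∃ u ∈ chevE6.group K,
      (u : Matrix chevE6.Idx chevE6.Idx K) = chevE6.wordMat K l := by
    intro l
    induction l with
    | nil => exact ⟨1, one_mem _, by simp [ChevalleyDatum.wordMat]⟩
    | cons p l ih =>
      obtain ⟨u, hu, e⟩ := ih
      by_cases hp : p.1 < chevE6.nroots
      · refine ⟨X hW.good ⟨p.1, hp⟩ p.2 * u, mul_mem (X_mem_group _ _ _) hu, ?_⟩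
        rw [Units.val_mul, e, coe_X, ← x_eq_xR hW.good]
        simp [ChevalleyDatum.wordMat]
      · refine ⟨u, hu, ?_⟩
        rw [e]
        simp [ChevalleyDatum.wordMat, ChevalleyDatum.x, hp]
  obtain ⟨u, hu, e⟩ := this l
  rwa [show z = u from Units.ext (hz.trans e.symm)]

theorem coord_simple_prod (hW : GoodWeyl chevE6) (i : Fin chevE6.rank) (c : Fin chevE6.rank → K) :
    ((List.finRange chevE6.rank).map fun a => X hW.good (pRoot hW a) (c a)).prod ∈ chevE6.posUnipotent K ∧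
    coord hW i ((List.finRange chevE6.rank).map fun a => X hW.good (pRoot hW a) (c a)).prod i = c i := by
  have hsum : ∀ l : List (Fin chevE6.rank),
      (l.map fun a => X hW.good (pRoot hW a) (c a)).prod ∈ chevE6.posUnipotent K ∧
      coord hW i (l.map fun a => X hW.good (pRoot hW a) (c a)).prod i =
        (l.map fun a => if a = i then c a else 0).sum := by
    intro l
    induction l with
    | nil => exact ⟨one_mem _, by simp [coord, Matrix.one_apply]⟩
    | cons a l ih =>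
      rw [List.map_cons, List.prod_cons, List.map_cons, List.sum_cons]
      have hX := Chevalley.X_mem_pos hW.good (pRoot_pos hW a) (c a)
      exact ⟨mul_mem hX ih.1, by rw [coord_mul hW i hX ih.1, ih.2, coord_X]⟩
  obtain ⟨h1, h2⟩ := hsum (List.finRange chevE6.rank)
  refine ⟨h1, h2.trans ?_⟩
  rw [← List.ofFn_eq_map, List.sum_ofFn, Finset.sum_ite_eq' Finset.univ i, if_pos (Finset.mem_univ i)]

/-- A power of the diagonal automorphism inducing an inner automorphism of the group is trivial. -/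
theorem dvd_of_inner [Fintype K] (hK : Fintype.card K = 4) (hW : GoodWeyl chevE6) {u : Kˣ} (hu : orderOf u = 3)
    (m : ℕ) {a : GL chevE6.Idx K} (ha : a ∈ chevE6.group K)
    (hconj : ∀ y ∈ chevE6.group K, tripDelta u ^ m * y * (tripDelta u ^ m)⁻¹ = a * y * a⁻¹) : 3 ∣ m := by
  have hu3 : u ^ 3 = 1 := by rw [← hu]; exact pow_orderOf_eq_one u
  set y := ((List.finRange chevE6.rank).map fun b => X hW.good (pRoot hW b) (1 : K)).prod with hy
  have hyG : y ∈ chevE6.group K := by
    refine Subgroup.list_prod_mem _ fun x hx => ?_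
    obtain ⟨b, -, rfl⟩ := List.mem_map.1 hx
    exact X_mem_group _ _ _
  have hy' : tripDelta u ^ m * y * (tripDelta u ^ m)⁻¹ =
      ((List.finRange chevE6.rank).map fun b =>
        X hW.good (pRoot hW b) (((tripChi u (pRoot hW b) : Kˣ) : K) ^ m)).prod := by
    rw [← MulAut.conj_apply, hy, ← MulEquiv.coe_toMonoidHom, map_list_prod, List.map_map]
    refine congrArg List.prod (List.map_congr_left fun b _ => ?_)
    rw [Function.comp_apply, MulEquiv.coe_toMonoidHom, MulAut.conj_apply, tripDelta_conj hW u hu3, mul_one]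
  have e : a⁻¹ * (tripDelta u ^ m * y * (tripDelta u ^ m)⁻¹) * a⁻¹⁻¹ = y := by
    rw [hconj y hyG]; group
  refine no_conj_regular hK hW hu m (inv_mem ha)
    (y := tripDelta u ^ m * y * (tripDelta u ^ m)⁻¹) ?_ (fun i => ?_) ?_ fun i => ?_
  · rw [hy']; exact (coord_simple_prod hW ⟨0, by decide⟩ _).1
  · rw [hy']; exact (coord_simple_prod hW i _).2
  · rw [e]; exact (coord_simple_prod hW ⟨0, by decide⟩ _).1
  · rw [e]; exact Or.inr (coord_simple_prod hW i _).2

variable [Fintype K]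

/-- Three non-conjugate twists. -/
theorem exists_three (hK : Fintype.card K = 4) {G : Type*} [Group G]
    (hOut : Nat.card (Cfsg.Out G) = 2) (ψ : G →* GL chevE6.Idx K) (hψ : Function.Injective ψ)
    (hle : ψ.range ≤ twistedE6 K 2)
    (hcent : ∀ z : GL chevE6.Idx K, (∀ x, Commute z (ψ x)) →
      ∃ c : K, (z : Matrix chevE6.Idx chevE6.Idx K) = c • 1) :
    ∃ H : Fin 3 → Subgroup (twistedE6 K 2), (∀ i, Nonempty ((H i) ≃* G)) ∧
      (∀ i j, i ≠ j → ∀ g : (twistedE6 K 2), (H i).map (MulAut.conj g).toMonoidHom ≠ H j) := by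
  classical
  have hW : GoodWeyl chevE6 := goodWeyl_of_mem (by simp)
  obtain ⟨u, hu⟩ := IsCyclic.exists_ofOrder_eq_natCard (α := Kˣ)
  rw [Nat.card_units, Nat.card_eq_fintype_card, hK] at hu
  have hu3 : u ^ 3 = 1 := by
    have := pow_orderOf_eq_one u
    rwa [hu] at this
  set δ := tripDelta u with hδdef
  have hδ : δ ^ 3 = 1 := tripDelta_pow_three u hu3
  let H0 : Fin 3 → Subgroup (GL chevE6.Idx K) := fun i =>
    ψ.range.map (MulAut.conj (δ ^ (i : ℕ))).toMonoidHom
  have hle0 : ∀ i, H0 i ≤ twistedE6 K 2 := by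
    rintro i _ ⟨x, hx, rfl⟩
    exact tripDelta_twisted hW u hu3 _ (hle hx)
  refine ⟨fun i => (H0 i).subgroupOf (twistedE6 K 2), fun i => ?_, fun i j hij g heq => hij ?_⟩
  · exact ⟨((Subgroup.subgroupOfEquivOfLe (hle0 i)).trans
      (Subgroup.equivMapOfInjective _ _ (MulAut.conj (δ ^ (i : ℕ))).injective).symm).trans
      (MonoidHom.ofInjective hψ).symm⟩
  have heq' : ((H0 i).map (MulAut.conj (g : GL chevE6.Idx K)).toMonoidHom) = H0 j := by
    have h1 := congrArg (Subgroup.map (twistedE6 K 2).subtype) heq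
    rw [Subgroup.map_map, show (twistedE6 K 2).subtype.comp (MulAut.conj g).toMonoidHom =
      (MulAut.conj (g : GL chevE6.Idx K)).toMonoidHom.comp (twistedE6 K 2).subtype from rfl,
      ← Subgroup.map_map, Subgroup.map_subgroupOf_eq_of_le (hle0 i),
      Subgroup.map_subgroupOf_eq_of_le (hle0 j)] at h1
    exact h1
  set n := (δ ^ (j : ℕ))⁻¹ * (g : GL chevE6.Idx K) * δ ^ (i : ℕ) with hn
  have hnR : ψ.range.map (MulAut.conj n).toMonoidHom = ψ.range := by
    have h1 := congrArg (Subgroup.map (MulAut.conj (δ ^ (j : ℕ))⁻¹).toMonoidHom) heq'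
    simp only [H0, Subgroup.map_map] at h1
    rw [show ((MulAut.conj (δ ^ (j : ℕ))⁻¹).toMonoidHom.comp (MulAut.conj (δ ^ (j : ℕ))).toMonoidHom) =
        MonoidHom.id (GL chevE6.Idx K) from MonoidHom.ext fun x => by simp, Subgroup.map_id] at h1
    rw [← h1]
    congr 1
    refine MonoidHom.ext fun x => ?_
    simp only [hn, MonoidHom.comp_apply, MulEquiv.coe_toMonoidHom, MulAut.conj_apply]
    group
  let E := MonoidHom.ofInjective hψ
  let α : MulAut G := (E.trans ((Subgroup.equivMapOfInjective ψ.range _ (MulAut.conj n).injective).trans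
    (MulEquiv.subgroupCongr hnR))).trans E.symm
  have hα : ∀ x, ψ (α x) = n * ψ x * n⁻¹ := fun x => by
    show ψ (E.symm _) = _
    rw [MonoidHom.apply_ofInjective_symm]
    rfl
  obtain ⟨h, hh⟩ : α ^ 2 ∈ Cfsg.Inn G := by
    rw [← QuotientGroup.eq_one_iff]
    have := pow_card_eq_one' (x := ((α : MulAut G) : Cfsg.Out G))
    rwa [hOut] at this
  obtain ⟨c, hc⟩ := hcent ((ψ h)⁻¹ * (n * n)) fun x => by
    have e : n * n * ψ x * (n * n)⁻¹ = ψ h * ψ x * (ψ h)⁻¹ := by
      have h2 : ψ ((α ^ 2) x) = ψ (h * x * h⁻¹) := by rw [← hh]; rfl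
      rw [pow_two, MulAut.mul_apply, hα, hα, map_mul, map_mul, map_inv] at h2
      rw [← h2]; group
    rw [Commute, SemiconjBy]
    calc (ψ h)⁻¹ * (n * n) * ψ x
        = (ψ h)⁻¹ * (n * n * ψ x * (n * n)⁻¹) * (n * n) := by group
      _ = ψ x * ((ψ h)⁻¹ * (n * n)) := by rw [e]; group
  have hz : ∀ y, n * n * y * (n * n)⁻¹ = ψ h * y * (ψ h)⁻¹ := by
    intro y
    set z := (ψ h)⁻¹ * (n * n) with hzdef
    have hcomm : z * y = y * z := Units.ext (by simp [hc])
    rw [show n * n = ψ h * z by rw [hzdef]; group, show ψ h * z * y * (ψ h * z)⁻¹ = ψ h * (z * y * z⁻¹) * (ψ h)⁻¹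
      by group, hcomm, show y * z * z⁻¹ = y by group]
  have hg : (g : GL chevE6.Idx K) ∈ chevE6.group K := twisted_le_group hW g.2
  have hj2 : δ ^ (2 * (j : ℕ)) = (δ ^ (j : ℕ))⁻¹ := eq_inv_of_mul_eq_one_left (by
    rw [← pow_add, show 2 * (j : ℕ) + j = 3 * j by ring, pow_mul, hδ, one_pow])
  set d := (i : ℕ) + 2 * (j : ℕ) with hd
  set g0 := δ ^ (2 * (j : ℕ)) * (g : GL chevE6.Idx K) * (δ ^ (2 * (j : ℕ)))⁻¹ with hg0
  have hg0G : g0 ∈ chevE6.group K := tripDelta_group hW u hu3 _ hg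
  have hnd : n = g0 * δ ^ d := by
    rw [hn, hg0, hj2, hd, pow_add, hj2]
    have : Commute (δ ^ (i : ℕ)) (δ ^ (j : ℕ))⁻¹ := (Commute.pow_pow_self δ i j).inv_right
    rw [this.eq]
    group
  have hnn : n * n = g0 * (δ ^ d * g0 * (δ ^ d)⁻¹) * δ ^ (2 * d) := by
    rw [hnd, two_mul d, pow_add δ d d]
    generalize δ ^ d = e
    group
  set g1 := g0 * (δ ^ d * g0 * (δ ^ d)⁻¹) with hg1
  have hdvd : 3 ∣ 2 * d := dvd_of_inner hK hW hu (2 * d) (a := g1⁻¹ * ψ h)
    (mul_mem (inv_mem (mul_mem hg0G (tripDelta_group hW u hu3 _ hg0G)))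
      (twisted_le_group hW (hle ⟨h, rfl⟩))) fun y _ => by
    have := hz y
    rw [hnn] at this
    calc δ ^ (2 * d) * y * (δ ^ (2 * d))⁻¹
        = g1⁻¹ * (g1 * δ ^ (2 * d) * y * (g1 * δ ^ (2 * d))⁻¹) * g1 := by group
      _ = g1⁻¹ * ψ h * y * (g1⁻¹ * ψ h)⁻¹ := by rw [this]; group
  have h3 : 3 ∣ d := Nat.Coprime.dvd_of_dvd_mul_left (by norm_num) hdvd
  apply Fin.ext
  have := i.isLt; have := j.isLt
  omega

/-- An element with `w ^ 2 = w + 1`. -/
theorem exists_w (hK : Fintype.card K = 4) : ∃ w : K, CharP K 2 ∧ w * w = w + 1 := by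
  have : CharP K 2 := by
    have : Fact (Nat.Prime 2) := ⟨Nat.prime_two⟩
    exact charP_of_card_eq_prime_pow (f := 2) (by rw [hK]; norm_num)
  obtain ⟨u, hu⟩ := IsCyclic.exists_ofOrder_eq_natCard (α := Kˣ)
  rw [Nat.card_units, Nat.card_eq_fintype_card, hK] at hu
  refine ⟨(u : K), this, ?_⟩
  have hu3 : ((u : K)) ^ 3 = 1 := by
    rw [← Units.val_pow_eq_pow_val, show u ^ 3 = 1 by have := pow_orderOf_eq_one u; rwa [hu] at this,
      Units.val_one]
  have hne : (u : K) - 1 ≠ 0 := fun e => by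
    rw [sub_eq_zero, Units.val_eq_one] at e
    rw [e, orderOf_one] at hu
    omega
  have h0 : ((u : K) - 1) * ((u : K) * u + u + 1) = 0 := by linear_combination hu3
  have h1 := (mul_eq_zero.1 h0).resolve_left hne
  rw [← CharTwo.add_eq_zero, ← add_assoc]
  exact h1

/-- Only scalars commute with the images of `b, …, i`. -/
theorem scalar_of_commute_gens [CharP K 2] {w : K} (hw : w * w = w + 1) (hW : GoodWeyl chevE6)
    (z : GL chevE6.Idx K)
    (hz : ∀ a : Cfsg.Spor.Fi22.Gen, a ≠ Cfsg.Spor.Fi22.Gen.a → Commute z (genImg w hW a)) :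
    ∃ c : K, (z : Matrix chevE6.Idx chevE6.Idx K) = c • 1 := by
  refine scalar_of_commute w hw _ fun k h1 h9 => ?_
  have he : CosetEnum.Fi22.ix (CosetEnum.Fi22.en k) = k := by interval_cases k <;> rfl
  have hne : CosetEnum.Fi22.en k ≠ Cfsg.Spor.Fi22.Gen.a := by interval_cases k <;> decide
  have := (hz _ hne).map (Units.coeHom (Matrix chevE6.Idx chevE6.Idx K))
  rwa [genImg, he, Units.coeHom_apply, Units.coeHom_apply, coe_nU w hw hW h9] at this

end CfsgLib.E6Fi22
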