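import Cfsg.Agent.E6Fi22.Gens

/-!
The nine involutions as words in the twisted root elements.
-/

set_option autoImplicit false
set_option maxRecDepth 10000

namespace CfsgLib.E6Fi22

open Cfsg.Lie CfsgLib.Chevalley CfsgLib.E6Fold
open scoped MatrixGroups

/-- The matrix of a node. -/
def node (k : ℕ) : List Vec := nodeMats.getD k []

/-- The word of a node in the twisted root elements. -/
def nodeWord (k : ℕ) : List ℕ := conjWords.getD k [] ++ word0 ++ (conjWords.getD k []).reverse

/-- The matrices of the conjugating word around the first involution. -/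
def nodeFactors (k : ℕ) : List (List Vec) :=
  (flat (conjWords.getD k [])).map single ++ [cMat] ++ (flat (conjWords.getD k []).reverse).map single

theorem cMat_ok : sameRun ((flat word0).map single) [cMat] = true := by decide +kernel

theorem node_ok : (List.range 9).all (fun k => sameRun (nodeFactors k) [node k]) = true := by decide +kernel

theorem lengths_ok : (singles ++ nodeMats ++ [cMat]).all (fun M => Nat.beq M.length 78) = true := by decide +kernel

theorem letters_ok : (List.range 9).all (fun k => (nodeWord k).all (fun g => Nat.blt g 12) &&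
    ((flat (conjWords.getD k []) ++ flat word0 ++ flat (conjWords.getD k []).reverse).all
      fun j => Nat.blt j 20)) = true := by decide +kernel

theorem length_single {j : ℕ} (hj : j < 20) : (single j).length = 78 := by
  have h : j < singles.length := by rw [show singles.length = 20 from rfl]; exact hj
  rw [single, List.getD_eq_getElem _ _ h]
  exact Nat.eq_of_beq_eq_true (List.all_eq_true.mp lengths_ok _
    (List.mem_append_left _ (List.mem_append_left _ (List.getElem_mem h))))

theorem length_node {k : ℕ} (hk : k < 9) : (node k).length = 78 := by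
  have h : k < nodeMats.length := by rw [show nodeMats.length = 9 from rfl]; exact hk
  rw [node, List.getD_eq_getElem _ _ h]
  exact Nat.eq_of_beq_eq_true (List.all_eq_true.mp lengths_ok _
    (List.mem_append_left _ (List.mem_append_right _ (List.getElem_mem h))))

variable {K : Type*} [Field K] [CharP K 2] (w : K) (hw : w * w = w + 1) (hW : GoodWeyl chevE6)

/-- The nine involutions in the group. -/
noncomputable def nU (k : ℕ) : GL chevE6.Idx K := gProd w hW (nodeWord k)

include hw in
theorem nU_mem_twisted {k : ℕ} (hk : k < 9) : nU w hW k ∈ twistedE6 K 2 := by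
  refine gProd_mem_twisted w hw hW fun g hg => ?_
  have h := List.all_eq_true.mp letters_ok k (List.mem_range.2 hk)
  simp only [Bool.and_eq_true, List.all_eq_true, Nat.blt_eq] at h
  exact h.1 g hg

include hw in
theorem coe_nU {k : ℕ} (hk : k < 9) :
    (nU w hW k : Matrix chevE6.Idx chevE6.Idx K) = mev w (nm idxEquiv) (node k) := by
  have h := List.all_eq_true.mp letters_ok k (List.mem_range.2 hk)
  simp only [Bool.and_eq_true, List.all_eq_true, Nat.blt_eq, List.mem_append] at h
  have hA : ∀ j ∈ flat (conjWords.getD k []), j < 20 := fun j hj => h.2 j (Or.inl (Or.inl hj))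
  have hC : ∀ j ∈ flat word0, j < 20 := fun j hj => h.2 j (Or.inl (Or.inr hj))
  have hB : ∀ j ∈ flat (conjWords.getD k []).reverse, j < 20 := fun j hj => h.2 j (Or.inr hj)
  have hlen : ∀ l : List ℕ, (∀ j ∈ l, j < 20) → ∀ M ∈ l.map single, M.length = 78 := by
    intro l hl M hM
    obtain ⟨j, hj, rfl⟩ := List.mem_map.1 hM
    exact length_single (hl j hj)
  have hc : cMat.length = 78 := Nat.eq_of_beq_eq_true (List.all_eq_true.mp lengths_ok _ (by simp))
  have e0 := prod_eq_of_sameRun w hw idxEquiv (hlen _ hC) (fun M hM => by
    rw [List.mem_singleton] at hM; rw [hM, hc]) cMat_ok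
  have e1 := prod_eq_of_sameRun w hw idxEquiv (Ms := nodeFactors k) (Ns := [node k]) (by
    intro M hM
    simp only [nodeFactors, List.mem_append, List.mem_singleton] at hM
    rcases hM with (hM | hM) | hM
    · exact hlen _ hA M hM
    · rw [hM, hc]
    · exact hlen _ hB M hM) (fun M hM => by rw [List.mem_singleton] at hM; rw [hM, length_node hk])
    (List.all_eq_true.mp node_ok k (List.mem_range.2 hk))
  rw [List.map_singleton, List.prod_singleton] at e0 e1
  rw [← e1, nU, gProd, nodeWord]
  rw [show ∀ a b : List ℕ, flat (a ++ b) = flat a ++ flat b from fun a b => List.flatMap_append,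
    show ∀ a b : List ℕ, flat (a ++ b) = flat a ++ flat b from fun a b => List.flatMap_append]
  simp only [List.map_append, List.prod_append, Units.val_mul, nodeFactors,
    List.map_cons, List.map_nil, List.prod_cons, List.prod_nil, mul_one]
  rw [← coe_prod_sU w hw hW hA, ← coe_prod_sU w hw hW hB, ← e0, ← coe_prod_sU w hw hW hC]

end CfsgLib.E6Fi22
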